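import Groth.Agent.RefRank.AffineCompl
import Mathlib

/-!
Opens with affine inclusion containing a fixed dense open of a separated Noetherian scheme.
-/

universe u

open AlgebraicGeometry CategoryTheory TopologicalSpace

namespace Groth.Agent.CoPerfAffineIncl

section Top

variable {α : Type*} [TopologicalSpace α] [NoetherianSpace α] [QuasiSober α] [T0Space α]

/-- Finitely many candidates for maximal points of a closed set, and they cover it. -/
theorem exists_maximal_generization {C : Set α} (hC : IsClosed C) :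
    ∃ G : Set α, G.Finite ∧ G ⊆ C ∧ (∀ z ∈ C, ∃ ξ ∈ G, ξ ⤳ z ∧ ∀ η ∈ C, η ⤳ ξ → η = ξ) := by
  obtain ⟨T, hTf, hTc, hTi, hT⟩ := NoetherianSpace.exists_finite_set_isClosed_irreducible hC
  choose g hg using fun t (ht : t ∈ T) => QuasiSober.sober (hTi t ht) (hTc t ht)
  refine ⟨{x | ∃ t ht, g t ht = x}, ?_, ?_, fun z hz => ?_⟩
  · refine (hTf.dependent_image g).subset ?_
    rintro x ⟨t, ht, rfl⟩
    exact ⟨t, ht, rfl⟩
  · rintro x ⟨t, ht, rfl⟩
    exact hT ▸ Set.subset_sUnion_of_mem ht (hg t ht).mem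
  · rw [hT] at hz
    obtain ⟨t₀, ht₀, hzt₀⟩ := hz
    obtain ⟨t, ⟨ht, hzt⟩, hmax⟩ := (hTf.subset (Set.sep_subset T fun t => z ∈ t)).exists_maximal
      ⟨t₀, ht₀, hzt₀⟩
    refine ⟨g t ht, ⟨t, ht, rfl⟩, (hg t ht).specializes hzt, fun η hη hηξ => ?_⟩
    rw [hT] at hη
    obtain ⟨t', ht', hηt'⟩ := hη
    have hsub : t ⊆ t' := by
      rw [← (hg t ht).def]
      exact (hTc t' ht').closure_subset_iff.2
        (Set.singleton_subset_iff.2 (hηξ.mem_closed (hTc t' ht') hηt'))
    have hle := hmax ⟨ht', hsub hzt⟩ hsub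
    exact (hηξ.antisymm ((hg t ht).specializes (hle hηt'))).eq

/-- A dense open contains every point without proper generization. -/
theorem mem_of_dense_of_maximal {U : Set α} (hUo : IsOpen U) (hU : Dense U) {η : α}
    (h : ∀ η', η' ⤳ η → η' = η) : η ∈ U := by
  obtain ⟨G, hGf, -, hG⟩ := exists_maximal_generization (isClosed_univ (X := α))
  by_contra hη
  have hopen : IsOpen ((⋃ ξ ∈ G \ {η}, closure {ξ})ᶜ : Set α) :=
    (Set.Finite.isClosed_biUnion (hGf.subset Set.sdiff_subset) fun _ _ => isClosed_closure).isOpen_compl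
  have hmem : η ∈ (⋃ ξ ∈ G \ {η}, closure {ξ})ᶜ := by
    simp only [Set.mem_compl_iff, Set.mem_iUnion, not_exists]
    rintro ξ ⟨-, hξ⟩ hc
    exact hξ (h ξ (specializes_iff_mem_closure.2 hc))
  obtain ⟨u, hu, huU⟩ := hU.inter_open_nonempty _ hopen ⟨η, hmem⟩
  obtain ⟨ξ, hξG, hξu, -⟩ := hG u trivial
  have : ξ = η := by
    by_contra hne
    exact hu (Set.mem_biUnion (⟨hξG, hne⟩ : ξ ∈ G \ {η}) (specializes_iff_mem_closure.1 hξu))
  subst this
  exact hη (hξu.mem_open hUo huU)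

end Top

variable {S : Scheme.{u}} [IsNoetherian S] [S.IsSeparated]

/-- A maximal point of the complement of an affinely included open containing a dense open `U`
is a maximal point of the complement of `U`. -/
theorem maximal_compl_of_isAffineHom {U V : S.Opens} (hU : Dense (U : Set S)) (hUV : U ≤ V)
    [IsAffineHom V.ι] {ξ : S} (hξ : ξ ∉ V) (hmax : ∀ η ∉ V, η ⤳ ξ → η = ξ) {η : S} (hη : η ∉ U)
    (hηξ : η ⤳ ξ) : η = ξ := by
  by_cases hηV : η ∈ V
  swap
  · exact hmax η hηV hηξ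
  exfalso
  obtain ⟨W, hW, hξW, -⟩ := exists_isAffineOpen_mem_and_subset (x := ξ) (U := ⊤) trivial
  have hηW : η ∈ W := hηξ.mem_open W.2 hξW
  haveI : IsNoetherianRing Γ(S, W) := IsLocallyNoetherian.component_noetherian ⟨W, hW⟩
  let ι := hW.fromSpec
  let V' : (Spec Γ(S, W)).Opens := ι ⁻¹ᵁ V
  have hV' : IsAffineOpen V' := by
    have h1 : IsAffineOpen (V ⊓ W) := by
      have h := (hW.preimage V.ι).image_of_isOpenImmersion V.ι
      rwa [V.ι.image_preimage_eq_opensRange_inf, Scheme.Opens.opensRange_ι] at h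
    rw [← hW.fromSpec.isAffineOpen_iff_of_isOpenImmersion]
    rw [Scheme.Hom.image_preimage_eq_opensRange_inf, hW.opensRange_fromSpec, inf_comm]
    exact h1
  let p := hW.primeIdealOf ⟨ξ, hξW⟩
  let q := hW.primeIdealOf ⟨η, hηW⟩
  have hιp : ι p = ξ := hW.fromSpec_primeIdealOf ⟨ξ, hξW⟩
  have hιq : ι q = η := hW.fromSpec_primeIdealOf ⟨η, hηW⟩
  have hmin : ∀ q' : PrimeSpectrum Γ(S, W), q'.asIdeal ≤ p.asIdeal → (q' : ↥(Spec Γ(S, W))) ∉ V' → q' = p := by
    intro q' hle hq'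
    refine ι.isOpenEmbedding.injective ?_
    rw [hιp]
    refine hmax _ hq' ?_
    rw [← hιp]
    exact ((PrimeSpectrum.le_iff_specializes q' p).1 hle).map ι.continuous
  have hht : p.asIdeal.height ≤ 1 := Groth.RefRank.AffineCompl.height_le_one_of_generic
    (A := Γ(S, W)) V' hV' p (by intro h; exact hξ (hιp ▸ h)) hmin
  apply hη
  refine mem_of_dense_of_maximal U.2 hU fun η' hη' => ?_
  have hη'W : η' ∈ W := hη'.mem_open W.2 hηW
  let q' := hW.primeIdealOf ⟨η', hη'W⟩
  have hιq' : ι q' = η' := hW.fromSpec_primeIdealOf ⟨η', hη'W⟩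
  have hle : ∀ a b : PrimeSpectrum Γ(S, W), ι a ⤳ ι b → a ≤ b := fun a b h =>
    (PrimeSpectrum.le_iff_specializes a b).2 (ι.isOpenEmbedding.isInducing.specializes_iff.1 h)
  have hqp : q < p := by
    refine lt_of_le_of_ne (hle q p (by rw [hιq, hιp]; exact hηξ)) fun e => hξ ?_
    rw [← hιp, ← e, hιq]
    exact hηV
  by_contra hne
  have hq'q : q' < q := by
    refine lt_of_le_of_ne (hle q' q (by rw [hιq', hιq]; exact hη')) fun e => hne ?_
    rw [← hιq', e, hιq]
  have h1 := Ideal.height_strict_mono_of_isPrime (I := q.asIdeal) hqp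
  have h2 := Ideal.height_strict_mono_of_isPrime (I := q'.asIdeal) hq'q
  have h3 : q.asIdeal.height = 0 := ENat.lt_one_iff_eq_zero.1 (lt_of_lt_of_le h1 hht)
  rw [h3] at h2
  exact not_lt_bot h2

instance isAffineHom_inf (V W : S.Opens) [IsAffineHom V.ι] [IsAffineHom W.ι] :
    IsAffineHom (V ⊓ W).ι := by
  rw [← S.homOfLE_ι (inf_le_left : V ⊓ W ≤ V)]
  have : IsAffineHom (S.homOfLE (inf_le_left : V ⊓ W ≤ V)) :=
    MorphismProperty.of_isPullback (P := @IsAffineHom) (isPullback_opens_inf V W).flip inferInstance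
  infer_instance

/-- Finiteness and existence of a smallest member. -/
theorem finite_and_least (U : S.Opens) (hU : Dense (U : Set S)) :
    Set.Finite {V : S.Opens | U ≤ V ∧ IsAffineHom V.ι} ∧
      ∃ V₀ : S.Opens, (U ≤ V₀ ∧ IsAffineHom V₀.ι) ∧
        ∀ V : S.Opens, U ≤ V → IsAffineHom V.ι → V₀ ≤ V := by
  obtain ⟨G, hGf, hGsub, hG⟩ := exists_maximal_generization (α := S) U.2.isClosed_compl
  have hfin : Set.Finite {V : S.Opens | U ≤ V ∧ IsAffineHom V.ι} := by
    refine Set.Finite.of_finite_image (f := fun V : S.Opens => {g ∈ G | g ∉ V})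
      (hGf.finite_subsets.subset ?_) ?_
    · rintro _ ⟨V, -, rfl⟩
      exact Set.sep_subset _ _
    · have key : ∀ V W : S.Opens, U ≤ V → IsAffineHom V.ι → {g ∈ G | g ∉ V} = {g ∈ G | g ∉ W} →
          W ≤ V := by
        intro V W hUV hV h z hzW
        by_contra hzV
        obtain ⟨G', -, hG'sub, hG'⟩ := exists_maximal_generization (α := S) V.2.isClosed_compl
        obtain ⟨ξ, hξ', hξz, hξmax⟩ := hG' z hzV
        have hξV : ξ ∉ V := hG'sub hξ'
        have hξU : ξ ∉ U := fun h' => hξV (hUV h')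
        obtain ⟨g, hgG, hgξ, -⟩ := hG ξ hξU
        have hgU : g ∉ U := hGsub hgG
        have hgξ' : g = ξ := maximal_compl_of_isAffineHom hU hUV hξV hξmax hgU hgξ
        have : g ∈ {g ∈ G | g ∉ W} := h ▸ ⟨hgG, hgξ' ▸ hξV⟩
        exact this.2 ((hgξ' ▸ hξz).mem_open W.2 hzW)
      intro V hV W hW h
      exact le_antisymm (key W V hW.1 hW.2 h.symm) (key V W hV.1 hV.2 h)
  refine ⟨hfin, hfin.toFinset.inf id, ?_, fun V h1 h2 => Finset.inf_le (f := id) (hfin.mem_toFinset.2 ⟨h1, h2⟩)⟩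
  refine Finset.inf_induction (p := fun V : S.Opens => U ≤ V ∧ IsAffineHom V.ι)
    ⟨le_top, by rw [← Scheme.topIso_hom]; infer_instance⟩
    (fun V hV W hW => ⟨le_inf hV.1 hW.1, ?_⟩) (fun V hV => hfin.mem_toFinset.1 hV)
  have := hV.2
  have := hW.2
  infer_instance

end Groth.Agent.CoPerfAffineIncl
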